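import Groth.Agent.NoetherNormZ.Basic

/-!
# Noether normalisation adapted to a chain of ideals
-/

namespace Groth.Agent.NoetherNormZ

open MvPolynomial

universe u

variable {k : Type u} [Field k]

/-- the ideal generated by the first `h` variables -/
noncomputable def initIdeal (k : Type u) [Field k] (n h : ℕ) : Ideal (MvPolynomial (Fin n) k) :=
  Ideal.span (X '' {l : Fin n | (l : ℕ) < h})

theorem initIdeal_zero (n : ℕ) : initIdeal k n 0 = ⊥ := by
  simp [initIdeal]

theorem mem_initIdeal_succ {n h : ℕ} (p : MvPolynomial (Fin (n + 1)) k) :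
    p ∈ initIdeal k (n + 1) (h + 1) ↔ (finSuccEquiv k n p).coeff 0 ∈ initIdeal k n h := by
  classical
  rw [initIdeal, mem_ideal_span_X_image, initIdeal, mem_ideal_span_X_image]
  constructor
  · intro H m hm
    rw [mem_support_iff, finSuccEquiv_coeff_coeff] at hm
    obtain ⟨i, hi, hne⟩ := H _ (mem_support_iff.2 hm)
    obtain rfl | ⟨l, rfl⟩ := i.eq_zero_or_eq_succ
    · simp at hne
    · exact ⟨l, by simpa using hi, by simpa using hne⟩
  · intro H m hm
    by_cases h0 : m 0 = 0
    · have hm' : m.tail ∈ ((finSuccEquiv k n p).coeff 0).support := by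
        rw [mem_support_iff, finSuccEquiv_coeff_coeff]
        convert mem_support_iff.1 hm
        rw [← h0]
        exact Finsupp.cons_tail m
      obtain ⟨l, hl, hne⟩ := H _ hm'
      exact ⟨l.succ, by simpa using hl, by simpa [Finsupp.tail_apply] using hne⟩
    · exact ⟨0, by simp, h0⟩

/-- substituting a polynomial with invertible leading coefficient for the variable is integral -/
theorem isIntegral_aeval {R : Type u} [CommRing R] [IsDomain R] {G : Polynomial R} (hG : IsUnit G.leadingCoeff)
    (hdeg : 0 < G.natDegree) : (Polynomial.aeval G : Polynomial R →ₐ[R] Polynomial R).toRingHom.IsIntegral := by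
  intro z
  induction z using Polynomial.induction_on' with
  | add p q hp hq => exact RingHom.IsIntegralElem.add _ hp hq
  | monomial i a =>
    rw [← Polynomial.C_mul_X_pow_eq_monomial]
    refine RingHom.IsIntegralElem.mul _ ?_ ?_
    · rw [show Polynomial.C a = (Polynomial.aeval G : Polynomial R →ₐ[R] _).toRingHom (Polynomial.C a) by simp]
      exact RingHom.isIntegralElem_map _
    · letI := (Polynomial.aeval G : Polynomial R →ₐ[R] Polynomial R).toRingHom.toAlgebra
      refine IsIntegral.pow ?_ i
      obtain ⟨w, hw⟩ := hG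
      refine ⟨Polynomial.C (Polynomial.C (↑w⁻¹ : R)) * G.map Polynomial.C - Polynomial.C (Polynomial.C (↑w⁻¹ : R) * Polynomial.X), ?_, ?_⟩
      · refine Polynomial.Monic.sub_of_left ?_ ?_
        · rw [Polynomial.Monic, ← Polynomial.map_C, ← Polynomial.map_mul]
          have hu : (Polynomial.C (↑w⁻¹ : R) * G).Monic := by
            rw [Polynomial.Monic, Polynomial.leadingCoeff_C_mul_of_isUnit w⁻¹.isUnit, ← hw, Units.inv_mul]
          exact hu.map Polynomial.C
        · refine lt_of_le_of_lt Polynomial.degree_C_le ?_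
          rw [← Polynomial.map_C, ← Polynomial.map_mul, Polynomial.degree_map_eq_of_injective Polynomial.C_injective,
            Polynomial.degree_mul, Polynomial.degree_C w⁻¹.ne_zero, zero_add]
          exact Polynomial.natDegree_pos_iff_degree_pos.1 hdeg
      · rw [Polynomial.eval₂_sub, Polynomial.eval₂_mul, Polynomial.eval₂_C, Polynomial.eval₂_C, Polynomial.eval₂_map]
        rw [show (algebraMap (Polynomial R) (Polynomial R)).comp Polynomial.C = Polynomial.C from
          RingHom.ext fun r => by simp [RingHom.algebraMap_toAlgebra], Polynomial.eval₂_C_X]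
        simp [RingHom.algebraMap_toAlgebra]

/-- applying an integral map to the coefficients is integral -/
theorem isIntegral_mapAlgHom {R S : Type u} [CommRing R] [CommRing S] [Algebra k R] [Algebra k S]
    {φ : R →ₐ[k] S} (hφ : φ.toRingHom.IsIntegral) : (Polynomial.mapAlgHom φ).toRingHom.IsIntegral := by
  intro z
  induction z using Polynomial.induction_on' with
  | add p q hp hq => exact RingHom.IsIntegralElem.add _ hp hq
  | monomial i a =>
    rw [← Polynomial.C_mul_X_pow_eq_monomial]
    refine RingHom.IsIntegralElem.mul _ ?_ ?_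
    · obtain ⟨P, hPm, hP⟩ := hφ a
      refine ⟨P.map Polynomial.C, hPm.map _, ?_⟩
      rw [Polynomial.eval₂_map]
      have h1 := congrArg (Polynomial.C : S →+* Polynomial S) hP
      rw [Polynomial.hom_eval₂, map_zero] at h1
      refine (congrArg (fun g => Polynomial.eval₂ g _ P) ?_).trans h1
      exact RingHom.ext fun x => by simp
    · rw [show (Polynomial.X : Polynomial S) ^ i = (Polynomial.mapAlgHom φ).toRingHom (Polynomial.X ^ i) by simp]
      exact RingHom.isIntegralElem_map _

theorem finite_of_isIntegral {A B : Type u} [CommRing A] [CommRing B] [Algebra k A] [Algebra k B]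
    [Algebra.FiniteType k B] {φ : A →ₐ[k] B} (h : φ.toRingHom.IsIntegral) : φ.toRingHom.Finite := by
  refine h.to_finite (RingHom.FiniteType.of_comp_finiteType (f := algebraMap k A) ?_)
  rw [show φ.toRingHom.comp (algebraMap k A) = algebraMap k B from φ.comp_algebraMap]
  exact RingHom.finiteType_algebraMap.2 inferInstance

/-- normalisation adapted to a chain of ideals of a polynomial ring -/
theorem exists_adapted : ∀ (n : ℕ) {ι : Type} [Finite ι] (I : ι → Ideal (MvPolynomial (Fin n) k)),
    (∀ i, I i ≠ ⊤) → (∀ i j, I i ≤ I j ∨ I j ≤ I i) →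
    ∃ φ : MvPolynomial (Fin n) k →ₐ[k] MvPolynomial (Fin n) k, φ.toRingHom.IsIntegral ∧ Function.Injective φ ∧
      ∀ i, ∃ h ≤ n, (I i).comap φ = initIdeal k n h := by
  intro n
  induction n with
  | zero =>
    intro ι _ I hI _
    refine ⟨AlgHom.id k _, RingHom.isIntegral_of_surjective _ Function.surjective_id, Function.injective_id,
      fun i => ⟨0, le_rfl, ?_⟩⟩
    rw [initIdeal_zero]
    show I i = ⊥
    refine (Submodule.eq_bot_iff _).2 fun x hx => by_contra fun hx0 => hI i (Ideal.eq_top_of_isUnit_mem _ hx ?_)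
    have hx' : (isEmptyAlgEquiv k (Fin 0)) x ≠ 0 := fun h => hx0 ((map_eq_zero_iff _ (AlgEquiv.injective _)).1 h)
    have h2 := (isUnit_iff_ne_zero.2 hx').map (isEmptyAlgEquiv k (Fin 0)).symm
    rwa [AlgEquiv.symm_apply_apply] at h2
  | succ n ih =>
    intro ι _ I hI htot
    by_cases hall : ∀ i, I i = ⊥
    · exact ⟨AlgHom.id k _, RingHom.isIntegral_of_surjective _ Function.surjective_id, Function.injective_id,
        fun i => ⟨0, Nat.zero_le _, by rw [initIdeal_zero]; exact hall i⟩⟩
    push Not at hall
    obtain ⟨i₀, hi₀, hmin⟩ := Set.Finite.exists_minimalFor I {i | I i ≠ ⊥} (Set.toFinite _) hall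
    obtain ⟨f, hf, hf0⟩ := Submodule.exists_mem_ne_zero_of_ne_bot hi₀
    have hfI : ∀ i, I i ≠ ⊥ → f ∈ I i := fun i hi => by
      rcases htot i₀ i with h | h
      · exact h hf
      · exact hmin hi h hf
    let e : MvPolynomial (Fin (n + 1)) k ≃ₐ[k] Polynomial (MvPolynomial (Fin n) k) := (T f).trans (finSuccEquiv k n)
    let G := e f
    have hG : IsUnit G.leadingCoeff := T_leadingcoeff_isUnit f hf0
    let K : {i // I i ≠ ⊥} → Ideal (Polynomial (MvPolynomial (Fin n) k)) := fun i =>
      ((I i).comap e.symm).comap (Polynomial.aeval G : Polynomial (MvPolynomial (Fin n) k) →ₐ[MvPolynomial (Fin n) k] _)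
    have hdeg : 0 < G.natDegree := by
      by_contra hle
      rw [Nat.pos_iff_ne_zero, not_not] at hle
      refine hI i₀ (Ideal.eq_top_of_isUnit_mem _ hf ?_)
      have h1 : IsUnit G := by
        rw [Polynomial.eq_C_of_natDegree_eq_zero hle]
        refine IsUnit.map _ ?_
        rwa [Polynomial.leadingCoeff, hle] at hG
      have h2 := h1.map e.symm
      rwa [AlgEquiv.symm_apply_apply] at h2
    have hXK : ∀ i, Polynomial.X ∈ K i := fun i => by
      simpa [K, G] using hfI i i.2
    obtain ⟨φ', hφi, hφinj, hφc⟩ := ih (fun i => (K i).comap Polynomial.C)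
      (fun i h => hI i <| (Ideal.eq_top_iff_one _).2 (by
        have h1 : (1 : MvPolynomial (Fin n) k) ∈ (K i).comap Polynomial.C := h ▸ Submodule.mem_top
        simpa [K] using h1))
      (fun i j => (htot i j).imp (fun h => Ideal.comap_mono (Ideal.comap_mono (Ideal.comap_mono h)))
        fun h => Ideal.comap_mono (Ideal.comap_mono (Ideal.comap_mono h)))
    let Φ : MvPolynomial (Fin (n + 1)) k →ₐ[k] MvPolynomial (Fin (n + 1)) k :=
      (e.symm : _ →ₐ[k] MvPolynomial (Fin (n + 1)) k).comp
        (((Polynomial.aeval G).restrictScalars k).comp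
          ((Polynomial.mapAlgHom φ').comp (finSuccEquiv k n : MvPolynomial (Fin (n + 1)) k →ₐ[k] _)))
    have hinjG : Function.Injective (Polynomial.aeval G : Polynomial (MvPolynomial (Fin n) k) →ₐ[MvPolynomial (Fin n) k] _) := by
      rw [injective_iff_map_eq_zero]
      intro p h
      rw [Polynomial.aeval_def, Polynomial.algebraMap_eq] at h
      rcases Polynomial.comp_eq_zero_iff.1 (show p.comp G = 0 from h) with h2 | ⟨-, h2⟩
      · exact h2
      · rw [h2, Polynomial.natDegree_C] at hdeg
        omega
    have hinj : Function.Injective Φ := fun p q h =>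
      (finSuccEquiv k n).injective (Polynomial.map_injective φ'.toRingHom hφinj (hinjG (e.symm.injective h)))
    refine ⟨Φ, ?_, hinj, fun i => ?_⟩
    · exact ((((RingHom.isIntegral_of_surjective _ (finSuccEquiv k n).surjective).trans _ _
        (isIntegral_mapAlgHom hφi)).trans _ _ (isIntegral_aeval hG hdeg)).trans _ _
          (RingHom.isIntegral_of_surjective _ e.symm.surjective))
    by_cases hi : I i = ⊥
    · refine ⟨0, Nat.zero_le _, ?_⟩
      rw [initIdeal_zero, hi]
      exact (RingHom.injective_iff_ker_eq_bot _).1 hinj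
    obtain ⟨h, hh, hhc⟩ := hφc ⟨i, hi⟩
    refine ⟨h + 1, by omega, ?_⟩
    ext p
    rw [mem_initIdeal_succ, ← hhc]
    show Polynomial.map φ'.toRingHom (finSuccEquiv k n p) ∈ K ⟨i, hi⟩ ↔ _
    set P := finSuccEquiv k n p
    obtain ⟨W, hW⟩ := Polynomial.X_dvd_iff.2 (show (P.map φ'.toRingHom - Polynomial.C (φ' (P.coeff 0))).coeff 0 = 0 by simp)
    have h3 : P.map φ'.toRingHom - Polynomial.C (φ' (P.coeff 0)) ∈ K ⟨i, hi⟩ :=
      hW ▸ (K ⟨i, hi⟩).mul_mem_right _ (hXK _)
    exact ⟨fun h4 => ((K ⟨i, hi⟩).sub_mem_iff_right h4).1 h3, fun h4 => ((K ⟨i, hi⟩).sub_mem_iff_left h4).1 h3⟩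

end Groth.Agent.NoetherNormZ
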